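import Cfsg.Agent.Lib.Sporadic.FiClass
import Cfsg.Prelude.Def_FischerSpaces

/-!
# The concrete models for the groups of type M(22) and M(23)

Interface between the abstract theory of 3-transposition groups of type M(22) and computations in
the presented group Fi22 with its class of transpositions.
-/

set_option autoImplicit false

namespace CfsgLib.Sporadic.FiTransfer

/-- The transposition class of the presented group Fi22. -/
def classTr : Set Cfsg.Spor.Fi22 := conjugatesOf CosetCert.FiP.tr

/-- `G` with `D` is the presented Fi22 with its transposition class. -/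
def ModelIso (G : Type*) [Group G] (D : Set G) : Prop :=
  ∃ e : G ≃* Cfsg.Spor.Fi22, e '' D = classTr

theorem mem_classTr_self : CosetCert.FiP.tr ∈ classTr := mem_conjugatesOf_self

theorem classTr_conj {g d : Cfsg.Spor.Fi22} (hd : d ∈ classTr) : g * d * g⁻¹ ∈ classTr :=
  IsConj.trans hd (isConj_iff.2 ⟨g, rfl⟩)

/-- Membership transported by a model isomorphism. -/
theorem mem_iff_of_image {G : Type*} [Group G] {D : Set G} (e : G ≃* Cfsg.Spor.Fi22)
    (he : e '' D = classTr) {x : G} : x ∈ D ↔ e x ∈ classTr := by
  rw [← he]
  exact (e.injective.mem_set_image).symm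

/-- Commuting members transported by a model isomorphism. -/
theorem commute_iff {G : Type*} [Group G] (e : G ≃* Cfsg.Spor.Fi22) {x y : G} :
    Commute (e x) (e y) ↔ Commute x y :=
  ⟨fun h => e.injective (by simpa using h.eq), fun h => h.map e.toMonoidHom⟩

end CfsgLib.Sporadic.FiTransfer
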