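import Cfsg.Agent.Lib.Sporadic.FiTransfer.Uniq.Relators
import Cfsg.Agent.Lib.Sporadic.FiTransfer.Uniq.Count
import Cfsg.Agent.Lib.Sporadic.FiTransfer.Model

/-!
# Every group of type M(22) is Fi22

The nine generators found in `G` satisfy the relations of the presented Fi22 modulo the centre of
the subgroup they generate; that subgroup already contains all members of `D`.
-/

set_option autoImplicit false
set_option linter.unusedSectionVars false

namespace CfsgLib.Sporadic.FiTransfer

open Cfsg.Spor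
open CfsgLib.Sporadic.MTwentyTwo (Ctx)
open CfsgLib.Sporadic.FischerTransitivity (Nb CRel)
open Relation

attribute [local irreducible] CosetCert.FiP.tr

/-- The nine generators are finitely many. -/
@[local instance] def genFintype : Fintype Fi22.Gen :=
  ⟨⟨{.a, .b, .c, .d, .e, .f, .g, .h, .i}, by simp⟩, fun x => by cases x <;> decide⟩

/-- The position of a generator. -/
def genPos : Fi22.Gen → ℕ
  | .a => 0 | .b => 1 | .c => 2 | .d => 3 | .e => 4 | .f => 5 | .g => 6 | .h => 7 | .i => 8

theorem genPos_facts : ∀ x y : Fi22.Gen, genPos x < 9 ∧ coxLabel Fi22.edges x y =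
    (if genPos x = genPos y then 1 else if Uniq.joined (genPos x) (genPos y) then 3 else 2) := by
  decide

variable {G : Type*} [Group G] [Finite G] {D : Set G}

theorem relators_hold (ctx : Ctx D) {v : ℕ → G} (hv : Uniq.Diag D v) :
    ∀ r ∈ coxRelators Fi22.edges ∪ {r | r ∈ Fi22.extra},
      ∀ i < 9, Commute (FreeGroup.lift (fun x => v (genPos x)) r) (v i) := by
  have R := hv.rels ctx
  rintro r (⟨x, -, y, -, rfl⟩ | hr) i hi
  · have h : (v (genPos x) * v (genPos y)) ^ coxLabel Fi22.edges x y = 1 := by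
      obtain ⟨hx, hxy⟩ := genPos_facts x y
      have hy := (genPos_facts y x).1
      rw [hxy]
      split_ifs with h1 h2
      · rw [pow_one, h1, R.sq]
      · exact (ThreeTransp.Basic.braid_iff (R.sq _) (R.sq _)).1 (R.braid _ hx _ hy h2)
      · exact (ThreeTransp.Basic.commute_iff (R.sq _) (R.sq _)).1 (R.comm _ hx _ hy (by simpa using h2))
    simp only [map_pow, map_mul, FreeGroup.lift_apply_of, h]
    exact Commute.one_left _
  · simp only [Set.mem_ofPred_eq, Fi22.extra, List.mem_cons, List.not_mem_nil, or_false] at hr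
    rcases hr with rfl | rfl | rfl
    · have e : FreeGroup.lift (fun x => v (genPos x))
          ((Fi22.d * Fi22.c * Fi22.b * Fi22.d * Fi22.e * Fi22.f * Fi22.d * Fi22.h * Fi22.i) ^ 10) =
          Uniq.spiderElt v := by
        simp [Uniq.spiderElt, Uniq.spiderWord, Uniq.ev, genPos, mul_assoc]
      rw [e]; exact Uniq.spider_commute ctx hv hi
    · have e : FreeGroup.lift (fun x => v (genPos x))
          ((Fi22.a * Fi22.b * Fi22.c * Fi22.d * Fi22.e * Fi22.f * Fi22.h) ^ 9) = Uniq.sevenElt v := by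
        simp [Uniq.sevenElt, Uniq.sevenWord, Uniq.ev, genPos, mul_assoc]
      rw [e]; exact Uniq.seven_commute ctx hv hi
    · have e : FreeGroup.lift (fun x => v (genPos x))
          ((Fi22.b * Fi22.c * Fi22.d * Fi22.e * Fi22.f * Fi22.g * Fi22.h) ^ 9) =
          Uniq.ev v [1, 2, 3, 4, 5, 6, 7] ^ 9 := by
        simp [Uniq.ev, genPos, mul_assoc]
      rw [e]; exact Uniq.seven_commute' ctx hv hi

/-- The transfer: a group of type M(22) is Fi22, with `D` the class of transpositions. -/
theorem modelIso_ctx (ctx : Ctx D) : ModelIso G D := by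
  classical
  obtain ⟨v, hv⟩ := Uniq.exists_diag ctx
  set S : Set G := v '' {i | i < 9}
  set T : Subgroup G := Subgroup.closure S
  set Z : Subgroup T := Subgroup.center T
  let g₀ : Fi22.Gen → T := fun x => ⟨v (genPos x), Subgroup.subset_closure ⟨_, (genPos_facts x x).1, rfl⟩⟩
  have hlift : ∀ r : FreeGroup Fi22.Gen,
      ((FreeGroup.lift g₀ r : T) : G) = FreeGroup.lift (fun x => v (genPos x)) r := fun r =>
    DFunLike.congr_fun (FreeGroup.ext_hom (f := T.subtype.comp (FreeGroup.lift g₀))
      (g := FreeGroup.lift fun x => v (genPos x)) fun x => by simp [g₀]) r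
  have hrel : ∀ r ∈ coxRelators Fi22.edges ∪ {r | r ∈ Fi22.extra},
      FreeGroup.lift (fun x => (QuotientGroup.mk' Z) (g₀ x)) r = 1 := by
    intro r hr
    rw [show FreeGroup.lift (fun x => (QuotientGroup.mk' Z) (g₀ x)) r = QuotientGroup.mk' Z (FreeGroup.lift g₀ r) from
      DFunLike.congr_fun (FreeGroup.ext_hom (f := FreeGroup.lift fun x => (QuotientGroup.mk' Z) (g₀ x))
        (g := (QuotientGroup.mk' Z).comp (FreeGroup.lift g₀)) fun x => by simp) r]
    refine (QuotientGroup.eq_one_iff _).2 (Subgroup.mem_center_iff.2 fun t => Subtype.ext ?_)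
    rw [Subgroup.coe_mul, Subgroup.coe_mul, hlift]
    have hcm : (t : G) ∈ Subgroup.centralizer ({FreeGroup.lift (fun x => v (genPos x)) r} : Set G) := by
      refine (Subgroup.closure_le _).2 ?_ t.2
      rintro _ ⟨i, hi, rfl⟩
      exact Subgroup.mem_centralizer_singleton_iff.2 (relators_hold ctx hv r hr i hi).symm.eq
    exact Subgroup.mem_centralizer_singleton_iff.1 hcm
  let φ : Fi22 →* T ⧸ Z := PresentedGroup.toGroup hrel
  have hφ : ∀ x, φ (CosetCert.FiP.wd (FreeGroup.of x)) = QuotientGroup.mk' Z (g₀ x) := fun x =>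
    PresentedGroup.toGroup.of hrel
  have hsurj : Function.Surjective φ := by
    rw [← MonoidHom.range_eq_top, eq_top_iff]
    rintro q -
    obtain ⟨⟨t, ht⟩, rfl⟩ := QuotientGroup.mk'_surjective Z q
    induction ht using Subgroup.closure_induction with
    | mem u hu =>
      obtain ⟨i, hi, rfl⟩ := hu
      obtain ⟨x, rfl⟩ : ∃ x, genPos x = i := by
        have h : ∀ i < 9, ∃ x, genPos x = i := by decide
        exact h i hi
      exact ⟨_, hφ x⟩
    | one => exact ⟨1, map_one φ⟩
    | mul u w hu hw ihu ihw =>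
      obtain ⟨p, hp⟩ := ihu
      obtain ⟨q, hq⟩ := ihw
      exact ⟨p * q, by rw [map_mul, hp, hq]; rfl⟩
    | inv u hu ihu =>
      obtain ⟨p, hp⟩ := ihu
      exact ⟨p⁻¹, by rw [map_inv, hp]; rfl⟩
  have hinj : Function.Injective φ := by
    rw [← MonoidHom.ker_eq_bot_iff]
    have := CosetCert.FiP.isSimple
    refine (φ.normal_ker).eq_bot_or_eq_top.resolve_right fun htop => ?_
    have h1 : φ (CosetCert.FiP.wd Fi22.a) = 1 := by
      rw [← MonoidHom.mem_ker, htop]; trivial
    rw [hφ, QuotientGroup.mk'_apply, QuotientGroup.eq_one_iff, Subgroup.mem_center_iff] at h1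
    exact hv.noncomm ctx (i := 0) (j := 1) (by norm_num) (by norm_num) (by decide)
      (congrArg Subtype.val (h1 (g₀ .b))).symm
  have ha : v 0 ∈ D := hv.mem 0 (by norm_num)
  set ta : T := g₀ .a
  have htr : φ CosetCert.FiP.tr = QuotientGroup.mk' Z ta := by
    rw [show CosetCert.FiP.tr = CosetCert.FiP.wd Fi22.a by unfold CosetCert.FiP.tr; rfl]
    exact hφ .a
  -- all neighbours of `v 0` lie among the conjugates inside `T`
  have hnb : ∀ y ∈ Nb D (v 0), ∃ t ∈ T, t * v 0 * t⁻¹ = y := by
    obtain ⟨Zf, hcard, hZf⟩ := Uniq.exists_many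
    choose k hk using fun z : Zf => (hZf z z.2).1
    choose t ht using fun z : Zf => QuotientGroup.mk'_surjective Z (φ (k z))
    let w : Zf → G := fun z => (t z : G) * v 0 * (t z : G)⁻¹
    have hw : ∀ z, QuotientGroup.mk' Z (t z * ta * (t z)⁻¹) = φ z := fun z => by
      rw [map_mul, map_mul, map_inv, ht, ← htr, ← map_inv, ← map_mul, ← map_mul, ← hk]
    have hwinj : Function.Injective w := fun z z' e => Subtype.ext (hinj (by
      rw [← hw, ← hw]; exact congrArg _ (Subtype.ext e)))
    have hmem : ∀ z, w z ∈ Nb D (v 0) := by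
      intro z
      have hD' : w z ∈ D := ctx.hD.2.1 _ _ ha
      refine ⟨hD', fun e => (hZf z z.2).2.1 (hinj ?_), ?_⟩
      · rw [← hw, htr]; exact congrArg _ (Subtype.ext e)
      · by_contra hc
        have h3 : (v 0 * w z) ^ 3 = 1 := (ctx.hD.1.2 _ ha _ hD').resolve_left fun h2 =>
          hc ((ThreeTransp.Basic.commute_iff (FischerTransitivity.sq ctx.hD ha)
            (FischerTransitivity.sq ctx.hD hD')).2 h2)
        set u : T := ta * (t z * ta * (t z)⁻¹) with hu
        have hu3 : u ^ 3 = 1 := Subtype.ext h3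
        have hu2 : u ^ 2 ∈ Z := by
          rw [← QuotientGroup.eq_one_iff, ← QuotientGroup.mk'_apply, map_pow, hu, map_mul, hw, ← htr, ← map_mul,
            ← map_pow]
          have hcz : Commute CosetCert.FiP.tr (z : Fi22) := (hZf z z.2).2.2
          have hsq : (z : Fi22) * z = 1 := by
            rw [hk z]
            calc k z * CosetCert.FiP.tr * (k z)⁻¹ * (k z * CosetCert.FiP.tr * (k z)⁻¹)
                = k z * (CosetCert.FiP.tr * CosetCert.FiP.tr) * (k z)⁻¹ := by group
              _ = 1 := by rw [CosetCert.FiP.tr_mul_self, mul_one, mul_inv_cancel]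
          rw [hcz.mul_pow, pow_two, pow_two, CosetCert.FiP.tr_mul_self, hsq, one_mul, map_one]
        have hu1 : u ∈ Z := by
          have : u = (u ^ 2) ^ 2 := by
            calc u = u * u ^ 3 := by rw [hu3, mul_one]
              _ = (u ^ 2) ^ 2 := by group
          rw [this]; exact pow_mem hu2 2
        have := congrArg Subtype.val (Subgroup.mem_center_iff.1 hu1 ta)
        simp only [hu, Subgroup.coe_mul] at this
        apply hc
        have h' : v 0 * (v 0 * w z) = v 0 * w z * v 0 := this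
        rw [mul_assoc (v 0) (w z)] at h'
        exact mul_left_cancel h'
    have himg : w '' Set.univ = Nb D (v 0) := by
      refine Set.eq_of_subset_of_ncard_le ?_ ?_ (Set.toFinite _)
      · rintro _ ⟨z, -, rfl⟩; exact hmem z
      · rw [ctx.card_nb ha, Set.ncard_image_of_injective _ hwinj, Set.ncard_univ,
          Nat.card_eq_fintype_card, Fintype.card_coe]
        exact hcard
    intro y hy
    rw [← himg] at hy
    obtain ⟨z, -, rfl⟩ := hy
    exact ⟨_, (t z).2, rfl⟩
  -- connectedness
  have hΓ : ∀ y ∈ D, ∃ t ∈ T, t * v 0 * t⁻¹ = y := by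
    obtain ⟨-, -, hconn⟩ := FischerPrimitive.of_primitive ctx.hD ctx.hprim ctx.width
    intro y hy
    have hpath := hconn _ ha y hy
    clear hy
    induction hpath with
    | refl => exact ⟨1, one_mem _, by group⟩
    | tail _ hstep ih =>
      rename_i p q _
      obtain ⟨t, ht, rfl⟩ := ih
      obtain ⟨-, hq, hpq⟩ := hstep
      by_cases e : q = t * v 0 * t⁻¹
      · exact ⟨t, ht, e.symm⟩
      have hn : t⁻¹ * q * t ∈ Nb D (v 0) := by
        refine ⟨ThreeTransp.Basic.conj_mem' ctx.hD.2.1 t hq, fun e' => e ?_, ?_⟩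
        · rw [← e']; group
        · rw [← Commute.conj_iff t]
          rwa [show t * (t⁻¹ * q * t) * t⁻¹ = q by group]
      obtain ⟨s, hs, hsq⟩ := hnb _ hn
      exact ⟨t * s, mul_mem ht hs, by
        rw [show t * s * v 0 * (t * s)⁻¹ = t * (s * v 0 * s⁻¹) * t⁻¹ by group, hsq]; group⟩
  have hT : T = ⊤ := by
    refine eq_top_iff.2 ?_
    rw [← ctx.hD.2.2, Subgroup.closure_le]
    intro y hy
    obtain ⟨t, ht, rfl⟩ := hΓ y hy
    exact mul_mem (mul_mem ht ta.2) (inv_mem ht)
  let e₁ : G ≃* T := (Subgroup.topEquiv.symm.trans (MulEquiv.subgroupCongr hT.symm))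
  have hbij : Function.Bijective (QuotientGroup.mk' Z) := by
    refine ⟨?_, QuotientGroup.mk'_surjective Z⟩
    rw [← MonoidHom.ker_eq_bot_iff, QuotientGroup.ker_mk', eq_bot_iff]
    intro z hz
    rw [Subgroup.mem_bot]
    refine Subtype.ext ?_
    have : (z : G) ∈ Subgroup.center G := Subgroup.mem_center_iff.2 fun g =>
      congrArg Subtype.val (Subgroup.mem_center_iff.1 hz ⟨g, hT ▸ Subgroup.mem_top g⟩)
    rw [ctx.center, Subgroup.mem_bot] at this
    exact this
  let e₂ : Fi22 ≃* T ⧸ Z := MulEquiv.ofBijective φ ⟨hinj, hsurj⟩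
  let e : G ≃* Fi22 := e₁.trans ((MulEquiv.ofBijective (QuotientGroup.mk' Z) hbij).trans e₂.symm)
  have hea : e (v 0) = CosetCert.FiP.tr := by
    apply e₂.injective
    show e₂ (e₂.symm (QuotientGroup.mk' Z (e₁ (v 0)))) = φ CosetCert.FiP.tr
    rw [MulEquiv.apply_symm_apply, htr]
    exact congrArg _ (Subtype.ext rfl)
  refine ⟨e, Set.Subset.antisymm ?_ ?_⟩
  · rintro _ ⟨y, hy, rfl⟩
    obtain ⟨g, rfl⟩ := ctx.hclass _ ha y hy
    exact isConj_iff.2 ⟨e g, by rw [map_mul, map_mul, map_inv, hea]⟩
  · intro y hy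
    obtain ⟨g, rfl⟩ := isConj_iff.1 hy
    exact ⟨e.symm g * v 0 * (e.symm g)⁻¹, ctx.hD.2.1 _ _ ha,
      by rw [map_mul, map_mul, map_inv, MulEquiv.apply_symm_apply, hea]⟩

/-- The transfer theorem for the groups of type M(22). -/
theorem modelIso (hD : Cfsg.IsThreeTranspositionGroup D) (hprim : Cfsg.IsPrimitiveUnderConj D)
    (ht : Cfsg.IsOfTypeM22 G D) : ModelIso G D :=
  modelIso_ctx ⟨hD, hprim, ht⟩

end CfsgLib.Sporadic.FiTransfer
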