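import Cfsg.Agent.Lib.Sporadic.FiTransfer.ThreeA.Group
import Cfsg.Agent.Lib.Sporadic.FiUnitaryModel
import Cfsg.Agent.Lib.Sporadic.FischerPrimitive

/-!
# The presented group Fi22 with its transpositions is a group of type M(22)

The model instance of the three hypotheses of the statements on groups of type M(22).
-/

set_option autoImplicit false
set_option maxRecDepth 100000

open Cfsg.Spor
open CfsgLib.Sporadic.CosetCert CfsgLib.Sporadic.CosetCert.FiP CfsgLib.Sporadic.CosetCert.FiP.OutFi22
open CfsgLib.Sporadic.CosetCert.FiData (table)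

namespace CfsgLib.Sporadic.FiTransfer

attribute [local irreducible] PTab.img

namespace Instance

theorem gen_zero : coding.gen 0 = tr := (coding.gen_code Fi22.Gen.a)

theorem gen_mem (x : ℕ) (hx : x < 9) : coding.gen x ∈ classTr := by
  rw [ThreeA.classTr_eq_range, gen_eq_dp x hx]
  exact ⟨_, rfl⟩

theorem not_commute_zero_one : ¬ Commute (coding.gen 0) (coding.gen 1) := by
  intro h
  rw [gen_eq_dp 1 (by norm_num)] at h
  have h2 := congrArg Fin.val (ThreeA.fix_iff_commute.2 h)
  rw [hom_acts.img_eq 0 (by decide +kernel)] at h2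
  rw [gpt_val (by norm_num)] at h2
  revert h2
  decide +kernel

theorem isThreeTranspositionSet : Cfsg.IsThreeTranspositionSet classTr := by
  have hord : orderOf tr = 2 := orderOf_eq_prime (by rw [pow_two, tr_mul_self]) tr_ne_one
  refine ⟨fun d hd => ?_, fun d hd e he => ?_⟩
  · obtain ⟨g, rfl⟩ := isConj_iff.1 hd
    rw [show g * tr * g⁻¹ = MulAut.conj g tr from rfl, MulEquiv.orderOf_eq, hord]
  · obtain ⟨g, rfl⟩ := isConj_iff.1 hd
    obtain ⟨g', rfl⟩ := isConj_iff.1 he
    have hcj : ∀ (x : Fi22) (n : ℕ), (tr * (x * tr * x⁻¹)) ^ n = 1 →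
        (g * tr * g⁻¹ * (g * (x * tr * x⁻¹) * g⁻¹)) ^ n = 1 := fun x n hx => by
      rw [show g * tr * g⁻¹ * (g * (x * tr * x⁻¹) * g⁻¹) = g * (tr * (x * tr * x⁻¹)) * g⁻¹ by group,
        conj_pow, hx, mul_one, mul_inv_cancel]
    have key : ∀ x : Fi22, (tr * (x * tr * x⁻¹)) ^ 2 = 1 ∨ (tr * (x * tr * x⁻¹)) ^ 3 = 1 := by
      intro x
      have hfix : ∀ h ∈ grpH, ∀ (y : Fi22) (n : ℕ), (tr * y) ^ n = 1 →
          (tr * (h * y * h⁻¹)) ^ n = 1 := fun h hh y n hy => by
        rw [show tr * (h * y * h⁻¹) = h * (tr * y) * h⁻¹ by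
          rw [← mul_assoc, ← mul_assoc, ← Subgroup.mem_centralizer_singleton_iff.1 (grpH_le hh)]
          group, conj_pow, hy, mul_one, mul_inv_cancel]
      rcases conj_cases x with ⟨h, -⟩ | ⟨h, hh, h' | h'⟩
      · rw [h, tr_mul_self, one_pow]; exact Or.inl rfl
      · rw [h']
        refine Or.inl (hfix h hh _ _ ?_)
        have := wd_eq (r := (Fi22.a * Fi22.c) ^ 2) (s := 1) (by decide +kernel) (by decide +kernel)
          (by decide +kernel)
        simpa [wd, tr] using this
      · rw [h']
        refine Or.inr (hfix h hh _ _ ?_)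
        have := wd_eq (r := (Fi22.a * Fi22.b) ^ 3) (s := 1) (by decide +kernel) (by decide +kernel)
          (by decide +kernel)
        simpa [wd, tr] using this
    have e2 : g' * tr * g'⁻¹ = g * ((g⁻¹ * g') * tr * (g⁻¹ * g')⁻¹) * g⁻¹ := by group
    rw [e2]
    exact (key _).imp (hcj _ 2) (hcj _ 3)

theorem closure_classTr : Subgroup.closure classTr = ⊤ := by
  have := FiP.isSimple
  have heq : Subgroup.closure classTr = Subgroup.normalClosure {tr} := by
    simp [classTr, Subgroup.normalClosure, Group.conjugatesOfSet]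
  have hn : (Subgroup.closure classTr).Normal := heq ▸ Subgroup.normalClosure_normal
  refine hn.eq_bot_or_eq_top.resolve_left fun h => tr_ne_one ?_
  rw [← Subgroup.mem_bot, ← h]
  exact Subgroup.subset_closure mem_classTr_self

theorem center_bot : Subgroup.center Fi22 = ⊥ := by
  have := FiP.isSimple
  refine ((inferInstance : (Subgroup.center Fi22).Normal).eq_bot_or_eq_top).resolve_right fun h => ?_
  refine not_commute_zero_one ?_
  exact Subgroup.mem_center_iff.1 (h ▸ Subgroup.mem_top (coding.gen 1)) _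

theorem isThreeTranspositionGroup : Cfsg.IsThreeTranspositionGroup classTr :=
  ⟨isThreeTranspositionSet, fun g _ hd => classTr_conj hd, closure_classTr⟩

theorem conjugate {a b : Fi22} (ha : a ∈ classTr) (hb : b ∈ classTr) :
    ∃ g : Fi22, g * a * g⁻¹ = b :=
  isConj_iff.1 (IsConj.trans (IsConj.symm ha) hb)

theorem isPrimitive : Cfsg.IsPrimitiveUnderConj classTr := by
  have := FiP.finite
  have := FiP.isSimple
  refine FischerPrimitive.primitive isThreeTranspositionGroup (fun a ha b hb => conjugate ha hb)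
    ⟨_, gen_mem 0 (by norm_num), _, gen_mem 1 (by norm_num), fun e => not_commute_zero_one (e ▸ Commute.refl _)⟩ ?_ ?_
  · have h : commutator Fi22 = ⊤ := by
      refine ((inferInstance : (commutator Fi22).Normal).eq_bot_or_eq_top).resolve_left fun h => ?_
      refine not_commute_zero_one ?_
      rw [commute_iff_eq, ← commutatorElement_eq_one_iff_mul_comm, ← Subgroup.mem_bot, ← h]
      exact Subgroup.commutator_mem_commutator (Subgroup.mem_top _) (Subgroup.mem_top _)
    rw [h, ← commutator_def, h]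
  · intro N hN hs _
    rw [center_bot]
    refine (hN.eq_bot_or_eq_top.resolve_right fun h => ?_).le
    subst h
    have hsol : Group.IsSolvable Fi22 := Group.isSolvable_of_surjective (f := (Subgroup.topEquiv (G := Fi22)).toMonoidHom) (MulEquiv.surjective _)
    exact not_commute_zero_one ((IsSimpleGroup.comm_iff_isSolvable.2 hsol) _ _)

/-- The members commuting with `tr`, other than `tr`. -/
def nbSet : Set Fi22 := {y : Fi22 | y ∈ classTr ∧ y ≠ tr ∧ Commute tr y}

theorem nbSet_le : Subgroup.closure nbSet ≤ grpH := by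
  rw [← centralizer_tr, Subgroup.closure_le]
  exact fun y hy => Subgroup.mem_centralizer_singleton_iff.2 hy.2.2.symm.eq

theorem nbSet_nonempty : ∃ y, y ∈ nbSet := by
  obtain ⟨w, hw⟩ : ∃ w, w = wd Fi22.c := ⟨_, rfl⟩
  have hc : wd Fi22.b * wd Fi22.c * tr * wd Fi22.b * tr * (wd Fi22.b * wd Fi22.c * tr * wd Fi22.b)⁻¹ = w := by
    have := wd_eq (r := Fi22.b * Fi22.c * Fi22.a * Fi22.b * Fi22.a *
      (Fi22.b * Fi22.c * Fi22.a * Fi22.b)⁻¹) (s := Fi22.c) (by decide +kernel)
      (by decide +kernel) (by decide +kernel)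
    simpa [wd, tr, hw] using this
  refine ⟨w, isConj_iff.2 ⟨_, hc⟩, ?_, ?_⟩
  · rw [hw]; exact wd_ne (by decide +kernel) (by decide +kernel) (by decide +kernel)
  · rw [hw]
    show tr * wd Fi22.c = wd Fi22.c * tr
    have := wd_eq (r := Fi22.a * Fi22.c) (s := Fi22.c * Fi22.a) (by decide +kernel) (by decide +kernel)
      (by decide +kernel)
    simpa [wd, tr] using this

theorem center_le_ker {H : Type*} [Group H] {K : Type*} [Group K] (f : H →* K) (hf : Function.Surjective f)
    (hK : Subgroup.center K = ⊥) : Subgroup.center H ≤ f.ker := by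
  intro z hz
  rw [MonoidHom.mem_ker, ← Subgroup.mem_bot, ← hK, Subgroup.mem_center_iff]
  intro x
  obtain ⟨y, rfl⟩ := hf x
  rw [← map_mul, ← map_mul, Subgroup.mem_center_iff.1 hz y]

theorem center_PSU6 : Subgroup.center (Cfsg.PSU 6 FieldFour 2) = ⊥ := by
  have := simple_PSU6
  refine ((inferInstance : (Subgroup.center (Cfsg.PSU 6 FieldFour 2)).Normal).eq_bot_or_eq_top).resolve_right
    fun e => ?_
  let : CommGroup (Cfsg.PSU 6 FieldFour 2) :=
    { (inferInstance : Group (Cfsg.PSU 6 FieldFour 2)) with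
      mul_comm := fun x y => Subgroup.mem_center_iff.1
        (show y ∈ Subgroup.center (Cfsg.PSU 6 FieldFour 2) from e ▸ Subgroup.mem_top y) x }
  have hp : (Nat.card (Cfsg.PSU 6 FieldFour 2)).Prime := IsSimpleGroup.prime_card
  rw [card_PSU6] at hp
  norm_num at hp

/-- The group generated by the neighbours of `tr` covers the simple quotient of its centraliser. -/
theorem nb_quotient : Nonempty (↥(Subgroup.closure nbSet) ⧸ Subgroup.center ↥(Subgroup.closure nbSet)
    ≃* Cfsg.PSU 6 FieldFour 2) := by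
  have := FiP.finite
  have := simple_PSU6
  set H := Subgroup.closure nbSet with hH
  let f : H →* Cfsg.PSU 6 FieldFour 2 := toPSU6.comp (Subgroup.inclusion nbSet_le)
  have hrange : f.range = (H.subgroupOf grpH).map toPSU6 := by
    rw [MonoidHom.range_comp, Subgroup.inclusion_range]
  have hnorm : (H.subgroupOf grpH).Normal := by
    constructor
    intro n hn g
    rw [Subgroup.mem_subgroupOf] at hn ⊢
    have hg : (g : Fi22) * tr * (g : Fi22)⁻¹ = tr := by
      rw [Subgroup.mem_centralizer_singleton_iff.1 (grpH_le g.2), mul_inv_cancel_right]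
    have hle : H.map (MulAut.conj (g : Fi22)).toMonoidHom ≤ H := by
      rw [hH, MonoidHom.map_closure, Subgroup.closure_le]
      rintro _ ⟨y, hy, rfl⟩
      refine Subgroup.subset_closure ⟨classTr_conj hy.1, fun e => hy.2.1 ?_, ?_⟩
      · apply (MulAut.conj (g : Fi22)).injective
        exact e.trans hg.symm
      · rw [← hg]; exact (Commute.conj_iff _).2 hy.2.2
    exact hle ⟨_, hn, rfl⟩
  have hsurj : Function.Surjective f := by
    rw [← MonoidHom.range_eq_top, hrange]
    refine ((hnorm.map _ toPSU6_surjective).eq_bot_or_eq_top).resolve_left fun h => ?_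
    obtain ⟨y, hy⟩ := nbSet_nonempty
    rw [Subgroup.map_eq_bot_iff] at h
    have hyH : y ∈ grpH := nbSet_le (Subgroup.subset_closure hy)
    have hyk : (⟨y, hyH⟩ : grpH) ∈ toPSU6.ker := h (Subgroup.subset_closure hy)
    have htH : tr ∈ grpH := by rw [← centralizer_tr]; exact Subgroup.mem_centralizer_singleton_iff.2 rfl
    have htk : (⟨tr, htH⟩ : grpH) ∈ toPSU6.ker := by
      rw [← centerU_eq, Subgroup.mem_center_iff]
      exact fun g => Subtype.ext (Subgroup.mem_centralizer_singleton_iff.1 (grpH_le g.2))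
    obtain ⟨a, -, hau⟩ := (Nat.card_eq_two_iff' (1 : toPSU6.ker)).1 (by rw [toPSU6_ker]; exact card_ker_actU)
    have h1 : (⟨⟨y, hyH⟩, hyk⟩ : toPSU6.ker) ≠ 1 := fun e => by
      have hy1 : y = 1 := congrArg (fun z : toPSU6.ker => ((z : grpH) : Fi22)) e
      have := isThreeTranspositionSet.1 y hy.1
      rw [hy1, orderOf_one] at this
      exact absurd this (by norm_num)
    have h2 : (⟨⟨tr, htH⟩, htk⟩ : toPSU6.ker) ≠ 1 := fun e =>
      tr_ne_one (congrArg (fun z : toPSU6.ker => ((z : grpH) : Fi22)) e)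
    exact hy.2.1 (congrArg (fun z : toPSU6.ker => ((z : grpH) : Fi22)) ((hau _ h1).trans (hau _ h2).symm))
  have hker : Subgroup.center H = f.ker := by
    refine le_antisymm (center_le_ker f hsurj center_PSU6) fun z hz => ?_
    have hz' : (⟨(z : Fi22), nbSet_le z.2⟩ : grpH) ∈ Subgroup.center grpH := by rw [centerU_eq]; exact hz
    rw [Subgroup.mem_center_iff] at hz' ⊢
    intro x
    exact Subtype.ext (congrArg (fun w : grpH => (w : Fi22)) (hz' ⟨(x : Fi22), nbSet_le x.2⟩))
  exact ⟨(QuotientGroup.quotientMulEquivOfEq hker).trans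
    (QuotientGroup.quotientKerEquivOfSurjective f hsurj)⟩

theorem center_pairC : Subgroup.center ↥ThreeA.pairC = ⊥ := by
  rw [Subgroup.eq_bot_iff_forall]
  intro z hz
  refine ThreeA.phi_injective (Equiv.ext fun u => ThreeA.cPt_injective ?_)
  rw [map_one, Equiv.Perm.one_apply, ThreeA.cPt_phi]
  refine ThreeA.fix_iff_commute.2 ?_
  exact (congrArg Subtype.val (Subgroup.mem_center_iff.1 hz ⟨_, ThreeA.dp_mem_pairC u⟩)).symm

theorem common_closure : Subgroup.closure ({y : Fi22 | y ∈ classTr ∧ y ≠ coding.gen 0 ∧ Commute (coding.gen 0) y} ∩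
    {y : Fi22 | y ∈ classTr ∧ y ≠ coding.gen 1 ∧ Commute (coding.gen 1) y}) = ThreeA.pairC := by
  rw [← ThreeA.closure_common]
  congr 1
  ext y
  simp only [Set.mem_inter_iff, Set.mem_ofPred_eq]
  tauto

theorem proj_quotient {G : Type*} [Group G] {A B : Subgroup G} (h : A = B)
    (hc : Subgroup.center ↥B = ⊥) {n : ℕ} {μ c : ZMod 3}
    (hB : Cfsg.IsProjReflectionGroupModThree ↥B n μ c) :
    Cfsg.IsProjReflectionGroupModThree (↥A ⧸ Subgroup.center ↥A) n μ c := by
  subst h
  obtain ⟨Q, hQ, hdet, ⟨φ⟩⟩ := hB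
  exact ⟨Q, hQ, hdet, ⟨((QuotientGroup.quotientMulEquivOfEq hc).trans QuotientGroup.quotientBot).trans φ⟩⟩

/-- The model of type M(22). -/
theorem isOfTypeM22 : Cfsg.IsOfTypeM22 Fi22 classTr := by
  refine ⟨center_bot, coding.gen 0, gen_mem 0 (by norm_num), coding.gen 1, gen_mem 1 (by norm_num),
    not_commute_zero_one, ⟨FieldFour, inferInstance, inferInstance, by decide, ?_⟩, 1, one_ne_zero, ?_⟩
  · rw [gen_zero]
    exact nb_quotient
  · exact proj_quotient common_closure center_pairC ThreeA.pairC_iso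

end Instance

end CfsgLib.Sporadic.FiTransfer
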