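import Mathlib
import Cfsg.Prelude.Def_FischerSpaces

/-!
# Isomorphic pairs are of type M(22) together
-/

set_option autoImplicit false

namespace CfsgLib.Sporadic.FiTransfer.InstanceCongr

variable {G G' : Type*} [Group G] [Group G']

/-- Isomorphic groups have isomorphic quotients by their centres. -/
noncomputable def centreQuot (e : G ≃* G') : G ⧸ Subgroup.center G ≃* G' ⧸ Subgroup.center G' :=
  QuotientGroup.congr _ _ e (by
    ext y
    show y ∈ Subgroup.map e.toMonoidHom _ ↔ _
    rw [Subgroup.mem_map_equiv, Subgroup.mem_center_iff, Subgroup.mem_center_iff]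
    constructor
    · intro hy g
      simpa using congrArg e (hy (e.symm g))
    · intro hy g
      apply e.injective
      simpa using hy (e g))

/-- Subgroups that correspond have isomorphic quotients by their centres. -/
noncomputable def subQuot (e : G ≃* G') (A : Subgroup G) (B : Subgroup G') (h : A.map e.toMonoidHom = B) :
    A ⧸ Subgroup.center A ≃* B ⧸ Subgroup.center B :=
  centreQuot ((e.subgroupMap A).trans (MulEquiv.subgroupCongr h))

theorem nb_image (e : G ≃* G') (D : Set G) (d : G) :
    e '' {y : G | y ∈ D ∧ y ≠ d ∧ Commute d y} = {y : G' | y ∈ e '' D ∧ y ≠ e d ∧ Commute (e d) y} := by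
  ext y
  obtain ⟨x, rfl⟩ := e.surjective y
  rw [e.injective.mem_set_image]
  simp only [Set.mem_ofPred_eq, e.injective.mem_set_image, ne_eq, e.injective.eq_iff]
  exact and_congr Iff.rfl (and_congr Iff.rfl
    ⟨fun h => h.map e.toMonoidHom, fun h => e.injective (by simpa using h.eq)⟩)

/-- Being of type M(22) is carried along isomorphisms. -/
theorem isOfTypeM22_congr (e : G ≃* G') {D : Set G} {D' : Set G'} (he : e '' D = D')
    (h : Cfsg.IsOfTypeM22 G D) : Cfsg.IsOfTypeM22 G' D' := by
  subst he
  obtain ⟨hc, d, hd, c, hcD, hdc, ⟨F, iF, iFt, hF, ⟨φ⟩⟩, c₃, h3, Q, hQ, hdet, ⟨ψ⟩⟩ := h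
  refine ⟨?_, e d, ⟨d, hd, rfl⟩, e c, ⟨c, hcD, rfl⟩,
    fun h => hdc (e.injective (by simpa using h.eq)), ⟨F, iF, iFt, hF, ⟨?_⟩⟩,
    c₃, h3, Q, hQ, hdet, ⟨?_⟩⟩
  · rw [Subgroup.eq_bot_iff_forall]
    intro z hz
    have : e.symm z ∈ Subgroup.center G := Subgroup.mem_center_iff.2 fun g => e.injective (by
      simpa using Subgroup.mem_center_iff.1 hz (e g))
    rw [hc, Subgroup.mem_bot] at this
    simpa using congrArg e this
  · refine (subQuot e (Subgroup.closure _) _ ?_).symm.trans φ
    rw [MonoidHom.map_closure]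
    exact congrArg Subgroup.closure (nb_image e D d)
  · refine (subQuot e (Subgroup.closure _) _ ?_).symm.trans ψ
    rw [MonoidHom.map_closure, MulEquiv.coe_toMonoidHom, Set.image_inter e.injective, nb_image, nb_image]

end CfsgLib.Sporadic.FiTransfer.InstanceCongr
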